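import Groth.Agent.MultTori.K788.GoodPid
import Groth.Agent.MultTori.K87.Spread

/-! RQ-D4: the final form. -/

set_option autoImplicit false

universe u

namespace Groth.Agent.MultTori.K788

open Groth.Agent.MultTori.K441 TensorProduct

/-- RQ-D4 (Nagata's criterion and units). -/
theorem good_of_pid (F : Type u) [Field F] (hF : Good F) (D : Type u) [CommRing D] [IsDomain D] [Algebra F D]
    [Algebra.FiniteType F D] [IsPrincipalIdealRing D]
    (hD : ∀ (E : Type u) [Field E] [Algebra F E], IsDomain (E ⊗[F] D))
    (hu : Group.FG (Dˣ ⧸ (Units.map (algebraMap F D : F →* D)).range))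
    (K : Type u) [Field K] [Algebra D K] [IsFractionRing D K] : Good K :=
  good_of_pid_of (fun R F D _ _ _ _ _ _ _ _ _ _ _ hD => K87.Spread.exists_spread R F D hD) F hF D hD hu K

end Groth.Agent.MultTori.K788
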