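import Groth.Agent.MultTori.K441.Defs
import Groth.Agent.S2119
import Mathlib.RingTheory.PrincipalIdealDomain
import Mathlib.RingTheory.Localization.FractionRing

/-!
# Nagata's criterion for the property `Good` (RQ-D4)

`good_of_spread`: `R` a UFD of finite type over `ℤ` with finitely generated units and fraction field `F`, `D` a
principal ideal domain containing `F` such that `Dˣ / Fˣ` is finitely generated, and `B ⊆ D` a spreading out of
`D` over `R[1/r]` in which the primes of `R` not dividing `r` stay prime: the fraction field of `D` is `Good`.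
-/

set_option autoImplicit false
set_option linter.unusedSectionVars false

universe u v

namespace Groth.Agent.MultTori.K788

open Groth.Agent Groth.Agent.MultTori.K441

/-! ## Finitely generated commutative groups -/

theorem finite_iff_fg (G : Type*) [CommGroup G] : Module.Finite ℤ (Additive G) ↔ Group.FG G := by
  rw [GroupFG.iff_add_fg]
  exact Module.Finite.iff_addGroup_fg

theorem fg_of_injective {G H : Type*} [CommGroup G] [CommGroup H] (hH : Group.FG H) (f : G →* H)
    (hf : Function.Injective f) : Group.FG G := by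
  rw [← finite_iff_fg] at hH ⊢
  exact Module.Finite.of_injective (f.toAdditive.toIntLinearMap) hf

theorem fg_of_ker {G Q : Type*} [CommGroup G] [CommGroup Q] (hQ : Group.FG Q) (f : G →* Q)
    (hf : Group.FG f.ker) : Group.FG G := by
  have h1 : Group.FG (G ⧸ f.ker) := fg_of_injective hQ (QuotientGroup.kerLift f) (QuotientGroup.kerLift_injective f)
  rw [← finite_iff_fg] at hf h1 ⊢
  let q : Additive G →ₗ[ℤ] Additive (G ⧸ f.ker) := (QuotientGroup.mk' f.ker).toAdditive.toIntLinearMap
  have hq : Function.Surjective q := QuotientGroup.mk'_surjective f.ker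
  let i : Additive f.ker →ₗ[ℤ] Additive G := f.ker.subtype.toAdditive.toIntLinearMap
  have hex : LinearMap.ker q = LinearMap.range i := by
    ext x
    constructor
    · intro hx
      have hx' : (QuotientGroup.mk' f.ker) x.toMul = 1 := hx
      have hx2 : x.toMul ∈ f.ker := by simpa using hx'
      exact ⟨Additive.ofMul ⟨x.toMul, hx2⟩, rfl⟩
    · rintro ⟨y, rfl⟩
      change (QuotientGroup.mk' f.ker) (y.toMul : G) = 1
      simp
  have h2 : (LinearMap.ker q).FG := by
    rw [hex, LinearMap.range_eq_map]
    exact Submodule.FG.map _ Module.Finite.fg_top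
  refine ⟨Submodule.fg_of_fg_map_of_fg_inf_ker q ?_ ?_⟩
  · exact IsNoetherian.noetherian _
  · rw [top_inf_eq]; exact h2

/-! ## The units -/

section Units

variable {R F : Type u} [CommRing R] [IsDomain R] [UniqueFactorizationMonoid R] [Field F] [Algebra R F]
  [IsFractionRing R F]

/-- A subgroup of `Fˣ` containing the units of `R` and the prime divisors of `r`. -/
theorem exists_subgroup (hR : Group.FG Rˣ) (r : R) (hr : r ≠ 0) :
    ∃ H : Subgroup Fˣ, H.FG ∧ ∀ (y : R) (k : ℕ), y ∣ r ^ k → ∀ x : Fˣ, (x : F) = algebraMap R F y → x ∈ H := by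
  classical
  obtain ⟨f, hf, hfr⟩ := UniqueFactorizationMonoid.exists_prime_factors r hr
  have hinj : Function.Injective (algebraMap R F) := IsFractionRing.injective R F
  let φ : Rˣ →* Fˣ := Units.map (algebraMap R F : R →* F)
  let T : Set Fˣ := {x | ∃ q ∈ f, (x : F) = algebraMap R F q}
  have hT : T.Finite := by
    have h1 : (Units.val '' T : Set F).Finite := by
      refine Set.Finite.subset ((f.toFinset.finite_toSet).image (algebraMap R F)) ?_
      rintro _ ⟨x, ⟨q, hq, hx⟩, rfl⟩
      exact ⟨q, by simpa using hq, hx.symm⟩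
    exact Set.Finite.of_finite_image h1 (Units.val_injective.injOn)
  refine ⟨φ.range ⊔ Subgroup.closure T, ?_, ?_⟩
  · refine Subgroup.FG.sup ?_ ⟨hT.toFinset, by simp⟩
    rw [← Group.fg_iff_subgroup_fg]
    infer_instance
  · intro y k
    have hrk : r ^ k ≠ 0 := pow_ne_zero _ hr
    induction y using UniqueFactorizationMonoid.induction_on_prime with
    | h₁ => intro h; exact absurd (zero_dvd_iff.1 h) hrk
    | h₂ y hy =>
      intro _ x hx
      refine Subgroup.mem_sup_left ⟨hy.unit, ?_⟩
      ext
      rw [hx]; rfl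
    | h₃ y p hy hp ih =>
      intro h x hx
      have hp0 : algebraMap R F p ≠ 0 := by simpa using hp.ne_zero
      have hy0 : algebraMap R F y ≠ 0 := by simpa using hy
      have h1 := ih ((dvd_mul_left y p).trans h) (Units.mk0 _ hy0) rfl
      have h2 : p ∣ f.prod := by
        have h3 : p ∣ r := hp.dvd_of_dvd_pow ((dvd_mul_right p y).trans h)
        exact h3.trans hfr.symm.dvd
      obtain ⟨q, hq, hpq⟩ := hp.exists_mem_multiset_dvd h2
      obtain ⟨w, hw⟩ := hp.associated_of_dvd (hf q hq) hpq
      have hq0 : algebraMap R F q ≠ 0 := by simpa using (hf q hq).ne_zero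
      have h4 : x = (φ w)⁻¹ * Units.mk0 _ hq0 * Units.mk0 _ hy0 := by
        rw [mul_assoc, eq_inv_mul_iff_mul_eq]
        ext
        simp only [Units.val_mul, Units.val_mk0, hx, ← hw, map_mul]
        change algebraMap R F w * (algebraMap R F p * algebraMap R F y) = _
        ring
      rw [h4]
      refine Subgroup.mul_mem _ (Subgroup.mul_mem _ (Subgroup.inv_mem _ (Subgroup.mem_sup_left ⟨w, rfl⟩)) ?_) h1
      exact Subgroup.mem_sup_right (Subgroup.subset_closure ⟨q, hq, rfl⟩)

end Units

/-! ## Nagata's criterion -/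

section Main

variable {R F D K : Type u} [CommRing R] [IsDomain R] [UniqueFactorizationMonoid R] [Field F] [Algebra R F]
  [IsFractionRing R F] [CommRing D] [IsDomain D] [Algebra F D] [Algebra R D] [IsScalarTower R F D]
  [Field K] [Algebra D K] [IsFractionRing D K]

variable (r : R) (hr : r ≠ 0) (B : Subalgebra R D)
  (hBF : ∀ x : F, algebraMap F D x ∈ B ↔ ∃ n : ℕ, ∃ y : R, r ^ n • x = algebraMap R F y)

include hr hBF in
theorem isUnit_algebraMap (a : R) (ha : a ∣ r) : IsUnit (algebraMap R B a) := by
  have hinj : Function.Injective (algebraMap R F) := IsFractionRing.injective R F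
  have hr0 : algebraMap R F r ≠ 0 := by simpa using hr
  have h1 : algebraMap F D (algebraMap R F r)⁻¹ ∈ B := by
    rw [hBF]
    refine ⟨1, 1, ?_⟩
    rw [pow_one, Algebra.smul_def, mul_inv_cancel₀ hr0, map_one]
  have h2 : IsUnit (algebraMap R B r) := by
    refine IsUnit.of_mul_eq_one ⟨_, h1⟩ ?_
    apply Subtype.ext
    change algebraMap R D r * algebraMap F D (algebraMap R F r)⁻¹ = 1
    rw [IsScalarTower.algebraMap_apply R F D, ← map_mul, mul_inv_cancel₀ hr0, map_one]
  exact isUnit_of_dvd_unit (map_dvd _ ha) h2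

/-- The primes of `R` not dividing `r`, in `B`. -/
def PS (r : R) (B : Subalgebra R D) : Set B := {b | Prime b ∧ ∃ p : R, Prime p ∧ ¬ p ∣ r ∧ b = algebraMap R B p}

include hr hBF in
theorem exists_unit_mul (hprime : ∀ p : R, Prime p → ¬ p ∣ r → Prime (algebraMap R B p)) (a : R) (ha : a ≠ 0) :
    ∃ (u : Bˣ) (s : B), s ∈ Submonoid.closure (PS r B) ∧ algebraMap R B a = u * s := by
  induction a using UniqueFactorizationMonoid.induction_on_prime with
  | h₁ => exact absurd rfl ha
  | h₂ y hy => exact ⟨(hy.map (algebraMap R B)).unit, 1, one_mem _, by simp⟩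
  | h₃ y p hy hp ih =>
    obtain ⟨u, s, hs, h⟩ := ih hy
    by_cases hpr : p ∣ r
    · refine ⟨(isUnit_algebraMap r hr B hBF p hpr).unit * u, s, hs, ?_⟩
      rw [map_mul, h, Units.val_mul, IsUnit.unit_spec, mul_assoc]
    · refine ⟨u, algebraMap R B p * s, mul_mem (Submonoid.subset_closure ⟨hprime p hp hpr, p, hp, hpr, rfl⟩) hs, ?_⟩
      rw [map_mul, h]
      ring

include hr hBF in
theorem ufd [IsNoetherianRing B] [UniqueFactorizationMonoid D] (hloc : ∀ d : D, ∃ a : R, a ≠ 0 ∧ a • d ∈ B)
    (hprime : ∀ p : R, Prime p → ¬ p ∣ r → Prime (algebraMap R B p)) : UniqueFactorizationMonoid B := by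
  have hinjB : Function.Injective (algebraMap B D) := Subtype.val_injective
  have hle : Submonoid.closure (PS r B) ≤ nonZeroDivisors B := by
    rw [Submonoid.closure_le]
    intro b hb
    exact mem_nonZeroDivisors_of_ne_zero hb.1.ne_zero
  have hL : IsLocalization (Submonoid.closure (PS r B)) D := by
    refine (isLocalization_iff _ _).2 ⟨?_, ?_, ?_⟩
    · rintro ⟨y, hy⟩
      induction hy using Submonoid.closure_induction with
      | mem x hx =>
        obtain ⟨_, p, hp, _, rfl⟩ := hx
        change IsUnit (algebraMap R D p)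
        rw [IsScalarTower.algebraMap_apply R F D]
        refine IsUnit.map _ (IsUnit.mk0 _ ?_)
        simpa using hp.ne_zero
      | one => simp
      | mul x y _ _ h1 h2 =>
        change IsUnit (algebraMap B D (x * y))
        rw [map_mul]
        exact h1.mul h2
    · intro d
      obtain ⟨a, ha, had⟩ := hloc d
      obtain ⟨u, s, hs, h⟩ := exists_unit_mul r hr B hBF hprime a ha
      refine ⟨((↑u⁻¹ : B) * ⟨a • d, had⟩, ⟨s, hs⟩), ?_⟩
      have h1 : (s : B) = (↑u⁻¹ : B) * algebraMap R B a := by rw [h, Units.inv_mul_cancel_left]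
      change d * ((s : B) : D) = (((↑u⁻¹ : B) * (⟨a • d, had⟩ : B) : B) : D)
      rw [h1]
      change d * (((↑u⁻¹ : B) : D) * algebraMap R D a) = ((↑u⁻¹ : B) : D) * (a • d)
      rw [Algebra.smul_def]
      ring
    · intro x y h
      exact ⟨1, by rw [hinjB h]⟩
  have hdom : IsDomain (Localization (Submonoid.closure (PS r B))) := IsLocalization.isDomain_localization hle
  let e : D ≃ₐ[B] Localization (Submonoid.closure (PS r B)) := IsLocalization.algEquiv (Submonoid.closure (PS r B)) _ _
  refine S2119.result (fun a ha _ => WfDvdMonoid.exists_factors a ha) (PS r B) (fun p hp => hp.1) ?_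
  exact e.toMulEquiv.uniqueFactorizationMonoid ‹_›

include hr hBF in
theorem fg_units (hR : Group.FG Rˣ) (hu : Group.FG (Dˣ ⧸ (Units.map (algebraMap F D : F →* D)).range)) :
    Group.FG Bˣ := by
  obtain ⟨H, hH, hmem⟩ := exists_subgroup (F := F) hR r hr
  have hinj : Function.Injective (algebraMap R F) := IsFractionRing.injective R F
  have hinjD : Function.Injective (algebraMap F D) := (algebraMap F D).injective
  let ι : Bˣ →* Dˣ := Units.map (B.val : B →* D)
  let f : Bˣ →* Dˣ ⧸ (Units.map (algebraMap F D : F →* D)).range := (QuotientGroup.mk' _).comp ι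
  refine fg_of_ker (G := Bˣ) (Q := Dˣ ⧸ (Units.map (algebraMap F D : F →* D)).range) hu f ?_
  have hker : ∀ u : f.ker, ∃ x : Fˣ, Units.map (algebraMap F D : F →* D) x = ι u := by
    intro u
    have h1 : f u = 1 := u.2
    have h2 : ι u ∈ (Units.map (algebraMap F D : F →* D)).range := (QuotientGroup.eq_one_iff _).1 h1
    exact h2
  choose g hg using hker
  have hgH : ∀ u, g u ∈ H := by
    intro u
    have h1 : algebraMap F D (g u : F) ∈ B := by
      have h2 : algebraMap F D (g u : F) = ((u : Bˣ) : B) := congrArg Units.val (hg u)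
      rw [h2]; exact Subtype.property _
    have h1' : algebraMap F D ((g u)⁻¹ : Fˣ) ∈ B := by
      have h2 : algebraMap F D ((g u)⁻¹ : Fˣ) = (((u : Bˣ)⁻¹ : Bˣ) : B) := by
        have h3 : Units.map (algebraMap F D : F →* D) (g u)⁻¹ = ι (u : Bˣ)⁻¹ := by
          rw [map_inv, hg u, map_inv]
        exact congrArg Units.val h3
      rw [h2]; exact Subtype.property _
    obtain ⟨n, y, hy⟩ := (hBF _).1 h1
    obtain ⟨m, z, hz⟩ := (hBF _).1 h1'
    have hyz : y * z = r ^ (n + m) := by
      apply hinj
      rw [map_mul, ← hy, ← hz, smul_mul_smul_comm, ← pow_add, Units.mul_inv, Algebra.smul_def, mul_one]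
    have hy0 : algebraMap R F y ≠ 0 := by
      intro h0
      have : y = 0 := by simpa using h0
      rw [this, zero_mul] at hyz
      exact pow_ne_zero _ hr hyz.symm
    have hr0 : algebraMap R F r ≠ 0 := by simpa using hr
    have h5 : Units.mk0 _ hy0 ∈ H := hmem y (n + m) ⟨z, hyz.symm⟩ _ rfl
    have h6 : Units.mk0 _ hr0 ∈ H := hmem r 1 (by simp) _ rfl
    have h7 : g u = (Units.mk0 _ hr0 ^ n)⁻¹ * Units.mk0 _ hy0 := by
      rw [eq_inv_mul_iff_mul_eq]
      ext
      simp only [Units.val_mul, Units.val_pow_eq_pow_val, Units.val_mk0]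
      rw [← hy, Algebra.smul_def, map_pow]
    rw [h7]
    exact H.mul_mem (H.inv_mem (H.pow_mem h6 n)) h5
  have hginj : Function.Injective g := by
    intro u v h
    have h1 : ι u = ι v := by rw [← hg u, ← hg v, h]
    have h2 : (((u : Bˣ) : B) : D) = (((v : Bˣ) : B) : D) := congrArg Units.val h1
    exact Subtype.ext (Units.ext (Subtype.ext h2))
  have hgone : ∀ u v, g (u * v) = g u * g v := by
    intro u v
    apply Units.map_injective (f := (algebraMap F D : F →* D)) hinjD
    rw [map_mul, hg, hg, hg]
    exact map_mul ι _ _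
  let G : f.ker →* H := MonoidHom.mk' (fun u => ⟨g u, hgH u⟩) fun u v => Subtype.ext (hgone u v)
  exact fg_of_injective ((Group.fg_iff_subgroup_fg H).2 hH) G fun u v h => hginj (congrArg Subtype.val h)

include hr hBF in
theorem good_of_spread (hft : Algebra.FiniteType ℤ R) (hRu : Group.FG Rˣ) [IsPrincipalIdealRing D]
    (hB : Algebra.FiniteType R B) (hloc : ∀ d : D, ∃ a : R, a ≠ 0 ∧ a • d ∈ B)
    (hprime : ∀ p : R, Prime p → ¬ p ∣ r → Prime (algebraMap R B p))
    (hu : Group.FG (Dˣ ⧸ (Units.map (algebraMap F D : F →* D)).range)) : Good K := by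
  have hBft : Algebra.FiniteType ℤ B := Algebra.FiniteType.trans hft hB
  have : IsNoetherianRing B := Algebra.FiniteType.isNoetherianRing ℤ B
  have hK : IsFractionRing B K := by
    have hinj : Function.Injective (algebraMap B K) :=
      (IsFractionRing.injective D K).comp Subtype.val_injective
    have : FaithfulSMul B K := (faithfulSMul_iff_algebraMap_injective B K).2 hinj
    refine IsFractionRing.of_field B K fun z => ?_
    obtain ⟨x, y, hy, rfl⟩ := IsFractionRing.div_surjective (A := D) z
    obtain ⟨a, ha, hax⟩ := hloc x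
    obtain ⟨b, hb, hby⟩ := hloc y
    have hinjR : Function.Injective (algebraMap R D) := by
      rw [IsScalarTower.algebraMap_eq R F D]
      exact (algebraMap F D).injective.comp (IsFractionRing.injective R F)
    have hab : algebraMap R D (b * a) ≠ 0 := by
      intro h
      exact mul_ne_zero hb ha ((map_eq_zero_iff _ hinjR).1 h)
    refine ⟨⟨b • (a • x), B.smul_mem hax b⟩, ⟨a • (b • y), B.smul_mem hby a⟩, ?_⟩
    change algebraMap D K x / algebraMap D K y = algebraMap D K (b • (a • x)) / algebraMap D K (a • (b • y))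
    rw [smul_smul, smul_smul, mul_comm a b, Algebra.smul_def, Algebra.smul_def,
      map_mul (algebraMap D K), map_mul (algebraMap D K), mul_div_mul_left]
    exact (map_ne_zero_iff _ (IsFractionRing.injective D K)).2 hab
  exact ⟨B, inferInstance, inferInstance, inferInstance, hBft, hK, ufd r hr B hBF hloc hprime,
    fg_units r hr B hBF hRu hu⟩

end Main

open scoped TensorProduct in
/-- The statement of RQ-D3 (`exists_spread`). -/
def SpreadStmt : Prop :=
  ∀ (R F D : Type u) [CommRing R] [IsDomain R] [IsNoetherianRing R] [Field F] [Algebra R F]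
    [IsFractionRing R F] [CommRing D] [Algebra F D] [Algebra R D] [IsScalarTower R F D]
    [Algebra.FiniteType F D] (_ : ∀ (E : Type u) [Field E] [Algebra F E], IsDomain (E ⊗[F] D)),
    ∃ (r : R) (_ : r ≠ 0) (B : Subalgebra R D), Algebra.FiniteType R B ∧
      (∀ d : D, ∃ a : R, a ≠ 0 ∧ a • d ∈ B) ∧
      (∀ x : F, algebraMap F D x ∈ B ↔ ∃ n : ℕ, ∃ y : R, r ^ n • x = algebraMap R F y) ∧
      ∀ p : R, Prime p → ¬ p ∣ r → Prime (algebraMap R B p)

open scoped TensorProduct in
/-- RQ-D4 modulo RQ-D3. -/
theorem good_of_pid_of (H : SpreadStmt.{u}) (F : Type u) [Field F] (hF : Good F) (D : Type u) [CommRing D]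
    [IsDomain D] [Algebra F D] [Algebra.FiniteType F D] [IsPrincipalIdealRing D]
    (hD : ∀ (E : Type u) [Field E] [Algebra F E], IsDomain (E ⊗[F] D))
    (hu : Group.FG (Dˣ ⧸ (Units.map (algebraMap F D : F →* D)).range))
    (K : Type u) [Field K] [Algebra D K] [IsFractionRing D K] : Good K := by
  obtain ⟨R, _, _, _, hft, hfr, hufd, hRu⟩ := hF
  letI : Algebra R D := ((algebraMap F D).comp (algebraMap R F)).toAlgebra
  haveI : IsScalarTower R F D := IsScalarTower.of_algebraMap_eq' rfl
  haveI : IsNoetherianRing R := Algebra.FiniteType.isNoetherianRing ℤ R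
  obtain ⟨r, hr, B, hB, hloc, hBF, hprime⟩ := H R F D hD
  exact good_of_spread r hr B hBF hft hRu hB hloc hprime hu

end Groth.Agent.MultTori.K788
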